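import Groth.Agent.CurveRR.GlobGen
import Groth.Agent.ZeroSch.Basic
import Groth.Agent.TMul.AmpleBasis
import Groth.Agent.S8914

/-!
# The ideal of the zero scheme of a section is the inverse line bundle
-/

set_option autoImplicit false
set_option linter.style.haveILetI false
set_option backward.isDefEq.respectTransparency false
set_option backward.isDefEq.respectTransparency.types false

universe u

open CategoryTheory CategoryTheory.Limits AlgebraicGeometry TopologicalSpace Opposite
open Groth.Agent.CohFinite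
open Groth.Agent.QC (res resO res_res res_self res_smul resO_resO resO_self app_res)
open TMul (IsGen val tm homOf val_homOf)

noncomputable section

namespace Groth.Agent.PlaneCurve

variable {X : Scheme.{u}} [IsIntegral X] {L : X.Modules}

/-- A line bundle with a section locally nonzero: the ideal of zeros twisted by it is trivial. -/
theorem nonempty_ideal_iso (hL : PicF.IsInvertible L) (s : Coh.structureModule X ⟶ L)
    (hloc : ∀ x : X, ∃ (U : X.affineOpens) (e : Γ(L, U.1)) (c : Γ(X, U.1)),
      x ∈ U.1 ∧ IsGen e ∧ val s U.1 = c • e ∧ c ≠ 0) :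
    Nonempty (Coh.structureModule X ≅ CohB1.tensorMod (ClSub.idealMod (PicF2.zeroScheme L s)) L) := by
  let I := PicF2.zeroScheme L s
  have hI : BlowUp.IsEffCartierIdeal I := fun x => by
    obtain ⟨U, e, c, hx, he, hc, hc0⟩ := hloc x
    haveI : Nonempty U.1 := ⟨⟨x, hx⟩⟩
    exact ⟨U, hx, c, mem_nonZeroDivisors_of_ne_zero hc0, ZeroSch.ideal_zeroScheme_eq_span s hL U he hc⟩
  have hIi : PicF.IsInvertible (ClSub.idealMod I) := (Groth.Agent.S8914.result I).mpr hI
  have hS := shortExact_tmap hL (CurveRR.ideal_shortExact I)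
  have hz : (s ≫ (TMul.leftUnitIso L).inv) ≫ tmap (ClSub.toSubscheme I) L = 0 := by
    refine TMul.hom_ext_val (Groth.Agent.QC.section_eq_of_locally fun x _ => ?_)
    obtain ⟨U, e, c, hx, he, hc, -⟩ := hloc x
    refine ⟨U.1, le_top, hx, ?_⟩
    rw [TMul.res_val, TMul.res_val, TMul.val_comp, TMul.val_comp, hc]
    have h1 : (TMul.leftUnitIso L).inv.app U.1 (c • e) = tm (M := Coh.structureModule X) c e := by
      conv_lhs => rw [← CurveRR.leftUnitIso_tm L c e]
      exact congrArg (fun φ : CohB1.tensorMod (Coh.structureModule X) L ⟶ CohB1.tensorMod (Coh.structureModule X) L =>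
        φ.app U.1 (tm (M := Coh.structureModule X) c e)) (TMul.leftUnitIso L).hom_inv_id
    rw [h1, tmap_tm]
    obtain ⟨a, ha⟩ := (Groth.Agent.QC.mem_range_idealModι_affine I U c).mpr
      ((ZeroSch.ideal_zeroScheme_eq_span s hL U he hc).ge (Ideal.mem_span_singleton_self c))
    have h2 : (ClSub.toSubscheme I).app U.1 (show Γ(Coh.structureModule X, U.1) from c) = 0 := by
      rw [← ha]
      exact congrArg (fun φ : ClSub.idealMod I ⟶ ClSub.quotMod I => φ.app U.1 a)
        (kernel.condition (ClSub.toSubscheme I))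
    rw [h2, TMul.zero_tm]
    rfl
  let t : Coh.structureModule X ⟶ CohB1.tensorMod (ClSub.idealMod I) L := hS.fIsKernel.lift (KernelFork.ofι _ hz)
  have ht : t ≫ tmap (ClSub.idealModι I) L = s ≫ (TMul.leftUnitIso L).inv :=
    Fork.IsLimit.lift_ι' hS.fIsKernel _ hz
  have ht' : t ≫ CurveRR.idealIncl I L = s := by
    rw [CurveRR.idealIncl, ← Category.assoc, ht, Category.assoc, Iso.inv_hom_id, Category.comp_id]
  have htop : CohB1.genLocus _ t = ⊤ := top_le_iff.1 fun x _ => by
    obtain ⟨U, e, c, hx, he, hc, hc0⟩ := hloc x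
    obtain ⟨V, g, hxV, hg⟩ := TMul.exists_isGen hIi x
    obtain ⟨D, hD, hxD, hDle⟩ := exists_isAffineOpen_mem_and_subset (U := U.1 ⊓ V) (x := x) ⟨hx, hxV⟩
    have hDU : D ≤ U.1 := fun y hy => (hDle hy).1
    have hDV : D ≤ V := fun y hy => (hDle hy).2
    have hgD := (hg.res hDV)
    have heD := (he.res hDU)
    obtain ⟨r, hr⟩ := ((TMul.isGen_tm hgD heD) D le_rfl).2 (val t D)
    change r • res _ le_rfl _ = _ at hr
    rw [res_self] at hr
    refine (TMul.mem_genLocus_iff t).2 ⟨D, hxD, ?_⟩
    rw [← hr]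
    refine TMul.isGen_smul (TMul.isGen_tm hgD heD) ?_
    have hcD : val s D = resO X hDU c • res L hDU e := by rw [← TMul.res_val s hDU, hc, res_smul]
    let f : Γ(X, D) := (ClSub.idealModι I).app D (res _ hDV g)
    have h3 : val s D = (r * f) • res L hDU e := by
      rw [← ht', TMul.val_comp, ← hr, Scheme.Modules.Hom.app_smul, CurveRR.idealIncl_tm, smul_smul]
    have h4 : resO X hDU c = r * f := by
      refine (heD D le_rfl).1 ?_
      show resO X hDU c • res L le_rfl (res L hDU e) = _ • res L le_rfl (res L hDU e)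
      rw [res_self, ← hcD, h3]
    haveI : Nonempty D := ⟨⟨x, hxD⟩⟩
    have hc1 : resO X hDU c ≠ 0 := fun h => hc0 (map_injective_of_isIntegral X (homOfLE hDU) (h.trans (map_zero _).symm))
    have h5 := (Groth.Agent.QC.mem_range_idealModι_affine I ⟨D, hD⟩ f).1 ⟨_, rfl⟩
    rw [ZeroSch.ideal_zeroScheme_eq_span s hL ⟨D, hD⟩ heD hcD, Ideal.mem_span_singleton'] at h5
    obtain ⟨a, ha⟩ := h5
    refine IsUnit.of_mul_eq_one a ?_
    apply mul_right_cancel₀ hc1
    rw [one_mul]
    conv_rhs => rw [h4, ← ha]
    ring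
  haveI : IsIso t := by
    rw [Scheme.Modules.Hom.isIso_iff_isIso_app]
    intro V
    rw [ConcreteCategory.isIso_iff_bijective]
    have hg := TMul.isGen_genLocus t
    rw [htop] at hg
    have h1 := hg V le_top
    simp only [TMul.res_val] at h1
    rw [show (fun c : Γ(X, V) => c • val t V) = fun c => t.app V c from
      funext fun c => (TMul.app_eq_smul t c).symm] at h1
    exact h1
  exact ⟨asIso t⟩

end Groth.Agent.PlaneCurve
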