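import Groth.Prelude.Def_LefPen
import Groth.Agent.PlaneCurve.ZeroSeq
import Groth.Agent.PicPn.Main
import Groth.Agent.GrT.TwistMul
import Groth.Agent.HypIso.Main
import Mathlib.AlgebraicGeometry.ProjectiveSpectrum.Proper

/-!
# The ideal of a hypersurface of degree `d` is `O(-d)`
-/

set_option autoImplicit false
set_option linter.style.haveILetI false
set_option backward.isDefEq.respectTransparency false
set_option backward.isDefEq.respectTransparency.types false

universe u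

open CategoryTheory CategoryTheory.Limits AlgebraicGeometry TopologicalSpace Opposite GrT
open Groth.Agent.QC (res resO res_res res_self resO_resO resO_self)
open TMul (IsGen val)

noncomputable section

namespace Groth.Agent.PlaneCurve

variable {k : Type u} [Field k] {n d : ℕ}

theorem dehom_eq_deh (G : LefPen.Form n k d) (l : Fin (n + 1)) :
    LefPen.dehom G l = GrT.deh (CohB1.polyGrading n k) (PicPn.X_mem l) G.1 := by
  rw [GrT.deh_of_mem (CohB1.polyGrading n k) (PicPn.X_mem l) G.2]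
  rfl

theorem hasFracGens (N : ℤ) : GrT.HasFracGens (CohB1.polyGrading n k) N := by
  have hcov : ∀ x : ProjectiveSpectrum (CohB1.polyGrading n k),
      ∃ f ∈ CohB1.polyGrading n k 1, f ∉ x.asHomogeneousIdeal := fun x =>
    let ⟨i, hi⟩ := CohFinite.cov_X n k x; ⟨_, PicPn.X_mem i.down, hi⟩
  simpa using GrT.hasFracGens_of_cover hcov N

/-- The section of `O(d)` of a form. -/
def sigma (G : LefPen.Form n k d) :
    Coh.structureModule (CohB1.ProjSpace n k) ⟶ Twist.twistProjSpace n k (d : ℤ) :=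
  GrT.homOfSection _ (GrT.degSection (𝒜 := CohB1.polyGrading n k) G.2)

theorem exists_coeff (G : LefPen.Form n k d) (i : Fin (n + 1)) :
    ∃ e : Γ(Twist.twistProjSpace n k (d : ℤ), PicPn.ch (k := k) i), IsGen e ∧
      val (sigma G) (PicPn.ch (k := k) i) = GrT.deh (CohB1.polyGrading n k) (PicPn.X_mem i) G.1 • e := by
  let 𝒜 := CohB1.polyGrading n k
  have hpow : PicPn.ch (k := k) i ≤ Proj.basicOpen 𝒜 (MvPolynomial.X i ^ d) := fun y hy =>
    (ProjectiveSpectrum.mem_basicOpen 𝒜 _ y).mpr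
      (not_mem_pow 𝒜 ((ProjectiveSpectrum.mem_basicOpen 𝒜 _ y).mp hy) d)
  have hone : PicPn.ch (k := k) i ≤ Proj.basicOpen 𝒜 (1 : MvPolynomial (Fin (n + 1)) k) :=
    le_top.trans (Proj.basicOpen_one 𝒜).ge
  let e : Γ(GrTilde.tilde 𝒜 𝒜 (d : ℤ), PicPn.ch (k := k) i) :=
    twistGen 𝒜 (GrT.pow_mem_one 𝒜 (PicPn.X_mem i) d) (SetLike.GradedOne.one_mem (A := 𝒜)) (by simp) hone
  refine ⟨e, twistGen_bijective 𝒜 _ _ _ hpow hone, ?_⟩
  refine Eq.trans ((homOfSection_app _ _ _ (1 : Γ(Proj 𝒜, _))).trans (one_smul _ _)) ?_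
  refine pt_ext 𝒜 𝒜 fun y => ?_
  rw [pt_smul]
  have hy : MvPolynomial.X i ^ d ∉ y.1.asHomogeneousIdeal := (ProjectiveSpectrum.mem_basicOpen 𝒜 _ y.1).mp (hpow y.2)
  have h1 : (1 : MvPolynomial (Fin (n + 1)) k) ∉ y.1.asHomogeneousIdeal :=
    (ProjectiveSpectrum.mem_basicOpen 𝒜 _ y.1).mp (hone y.2)
  have h2 := pO_deh 𝒜 (PicPn.X_mem i) G.2 (le_refl (PicPn.ch (k := k) i)) y hy
  rw [resO_self] at h2
  show (Localization.mk (G.1) ⟨1, h1⟩ : Twist.Loc 𝒜 y.1) =
    pO 𝒜 (GrT.deh 𝒜 (PicPn.X_mem i) G.1) y * Localization.mk (MvPolynomial.X i ^ d) ⟨1, h1⟩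
  rw [h2, Localization.mk_mul, Localization.mk_eq_mk_iff, Localization.r_iff_exists]
  exact ⟨1, by simp only [Submonoid.coe_mul, OneMemClass.coe_one, one_mul, mul_one]; ring⟩

theorem deh_ne_zero (G : LefPen.Form n k d) (hG : G ≠ 0) (i : Fin (n + 1)) :
    GrT.deh (CohB1.polyGrading n k) (PicPn.X_mem i) G.1 ≠ 0 := fun h => by
  obtain ⟨N, hN⟩ := HypIso.exists_pow_mul_eq_zero (PicPn.X_mem i) G.2 h
  rcases mul_eq_zero.1 hN with h1 | h1
  · exact MvPolynomial.X_ne_zero i (eq_zero_of_pow_eq_zero h1)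
  · exact hG (Subtype.ext h1)

theorem hypIdeal_eq (G : LefPen.Form n k d) :
    LefPen.hypIdeal G = PicF2.zeroScheme (Twist.twistProjSpace n k (d : ℤ)) (sigma G) := by
  let I := PicF2.zeroScheme (Twist.twistProjSpace n k (d : ℤ)) (sigma G)
  have hL : PicF.IsInvertible (Twist.twistProjSpace n k (d : ℤ)) :=
    GrT.isInvertible_twist_of_gens (hasFracGens _)
  let C : Fin (n + 1) → (PicPn.P n k).affineOpens := fun l => ⟨PicPn.ch (k := k) l, PicPn.isAffineOpen_ch l⟩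
  have hC : ∀ l, I.ideal (C l) = Ideal.span {GrT.deh (CohB1.polyGrading n k) (PicPn.X_mem l) G.1} := fun l => by
    obtain ⟨e, he, hc⟩ := exists_coeff G l
    exact ZeroSch.ideal_zeroScheme_eq_span (sigma G) hL (C l) he hc
  apply le_antisymm
  · refine Scheme.IdealSheafData.le_of_iSup_eq_top C
      (top_le_iff.1 fun y _ => Opens.mem_iSup.2 (PicPn.exists_mem_ch y)) fun l h hh => ?_
    have h1 := Ideal.mem_iInf.1 (Scheme.IdealSheafData.ideal_ofIdeals_le _ (C l) hh) l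
    rw [Ideal.mem_comap, Ideal.mem_span_singleton] at h1
    obtain ⟨c, hc⟩ := h1
    rw [hC, Ideal.mem_span_singleton]
    refine ⟨resO _ (le_inf le_rfl le_rfl) c, ?_⟩
    have := congrArg (resO (PicPn.P n k)
      (le_inf le_rfl le_rfl : PicPn.ch (k := k) l ≤ PicPn.ch (k := k) l ⊓ PicPn.ch (k := k) l)) hc
    rw [map_mul, dehom_eq_deh] at this
    refine Eq.trans ?_ (this.trans ?_)
    · exact ((resO_resO _ _ h).trans (resO_self _ _)).symm
    · exact congrArg (· * _) ((resO_resO _ _ _).trans (resO_self _ _))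
  · refine Scheme.IdealSheafData.le_ofIdeals_iff.2 fun U h hh => Ideal.mem_iInf.2 fun i => ?_
    haveI : (CohB1.ProjSpace n k).IsSeparated := inferInstanceAs (PicPn.P n k).IsSeparated
    have hUi : IsAffineOpen (U.1 ⊓ PicPn.ch (k := k) i) := U.2.inf (PicPn.isAffineOpen_ch i)
    have h1 := Ideal.mem_map_of_mem ((PicPn.P n k).presheaf.map
      (homOfLE (inf_le_left : U.1 ⊓ PicPn.ch (k := k) i ≤ U.1)).op).hom hh
    erw [Scheme.IdealSheafData.map_ideal I (U := ⟨_, hUi⟩) (V := U)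
      (inf_le_left : U.1 ⊓ PicPn.ch (k := k) i ≤ U.1),
      ← Scheme.IdealSheafData.map_ideal I (U := ⟨_, hUi⟩) (V := C i)
        (inf_le_right : U.1 ⊓ PicPn.ch (k := k) i ≤ PicPn.ch (k := k) i), hC, Ideal.map_span,
      Set.image_singleton] at h1
    rw [Ideal.mem_comap, dehom_eq_deh]
    exact h1

theorem nonempty_ideal_iso_twist (G : LefPen.Form n k d) (hG : G ≠ 0) :
    Nonempty (ClSub.idealMod (LefPen.hypIdeal G) ≅ Twist.twistProjSpace n k (-(d : ℤ))) := by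
  haveI : IsIntegral (CohB1.ProjSpace n k) := PicPn.isIntegral
  have hL : PicF.IsInvertible (Twist.twistProjSpace n k (d : ℤ)) :=
    GrT.isInvertible_twist_of_gens (hasFracGens _)
  obtain ⟨e⟩ := nonempty_ideal_iso hL (sigma G) fun x => by
    obtain ⟨i, hi⟩ := PicPn.exists_mem_ch x
    obtain ⟨e, he, hc⟩ := exists_coeff G i
    exact ⟨⟨_, PicPn.isAffineOpen_ch i⟩, e, _, hi, he, hc, deh_ne_zero G hG i⟩
  obtain ⟨t⟩ := GrT.nonempty_twist_tensor_iso (CohB1.polyGrading n k) (a := -(d : ℤ)) (b := d) (c := 0)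
    (hasFracGens _) (by ring)
  obtain ⟨t₀⟩ := GrT.nonempty_twist_zero_iso (𝒜 := CohB1.polyGrading n k)
  rw [hypIdeal_eq]
  exact ⟨(SecTwist.unitorR _).symm ≪≫ PicGrp.tensorModIso (Iso.refl _)
      (t ≪≫ t₀).symm ≪≫
    (TMul.assocIso _ _ _).symm ≪≫ PicGrp.tensorModIso e.symm (Iso.refl _) ≪≫ TMul.leftUnitIso _⟩

end Groth.Agent.PlaneCurve
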