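import Mathlib
import Groth.Agent.KumFam.SubstInv

/-! Formal germs of plane curves: coordinates and recentring. -/

set_option autoImplicit false
set_option linter.all false
universe u

noncomputable section

namespace Groth.Agent.PlaneCurve

variable {k : Type u} [Field k]

local notation "S" => MvPowerSeries (Fin 2) k

open MvPowerSeries

theorem degree_fin2 (d : Fin 2 →₀ ℕ) : d.degree = d 0 + d 1 := by
  rw [Finsupp.degree_eq_sum, Fin.sum_univ_two]

/-- The linear coefficient. -/
def lc (i : Fin 2) (f : S) : k := coeff (Finsupp.single i 1) f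

theorem lc_X (i j : Fin 2) : lc (k := k) i (X j) = if i = j then 1 else 0 := by
  rw [lc, coeff_X]
  exact if_congr (Finsupp.single_left_inj one_ne_zero) rfl rfl

theorem lc_add (i : Fin 2) (f g : S) : lc i (f + g) = lc i f + lc i g := map_add _ _ _

theorem lc_sub (i : Fin 2) (f g : S) : lc i (f - g) = lc i f - lc i g := map_sub _ _ _

theorem lc_C (i : Fin 2) (c : k) : lc i (C c) = 0 := by
  rw [lc, coeff_C, if_neg]
  exact Finsupp.single_ne_zero.2 one_ne_zero

theorem lc_mul (i : Fin 2) (f g : S) :
    lc i (f * g) = constantCoeff f * lc i g + lc i f * constantCoeff g := by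
  classical
  rw [lc, coeff_mul, Finsupp.antidiagonal_single, Finset.sum_map,
    Finset.Nat.sum_antidiagonal_eq_sum_range_succ_mk, Finset.sum_range_succ, Finset.sum_range_one]
  simp [lc]

/-- `f = f(0) + x f₀ + y f₁`. -/
theorem exists_split (f : S) : ∃ f₀ f₁ : S, f = C (constantCoeff f) + X 0 * f₀ + X 1 * f₁ := by
  classical
  let g : S := fun d => if d 0 = 0 then coeff d f else 0
  have hg : ∀ d, coeff d g = if d 0 = 0 then coeff d f else 0 := fun d => rfl
  obtain ⟨f₀, hf₀⟩ : X 0 ∣ f - g := X_dvd_iff.2 fun m hm => by rw [map_sub, hg, if_pos hm, sub_self]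
  obtain ⟨f₁, hf₁⟩ : X 1 ∣ g - C (constantCoeff f) := X_dvd_iff.2 fun m hm => by
    rw [map_sub, hg, coeff_C]
    by_cases h0 : m = 0
    · subst h0
      rw [if_pos rfl, if_pos (by simp), coeff_zero_eq_constantCoeff_apply, sub_self]
    · rw [if_neg h0, sub_zero, if_neg]
      intro h
      exact h0 (Finsupp.ext fun i => by fin_cases i <;> assumption)
  exact ⟨f₀, f₁, by linear_combination hf₀ + hf₁⟩

theorem lc_split {f f₀ f₁ : S} (h : f = C (constantCoeff f) + X 0 * f₀ + X 1 * f₁) :
    lc 0 f = constantCoeff f₀ ∧ lc 1 f = constantCoeff f₁ := by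
  obtain ⟨c, hc⟩ : ∃ c, f = C c + X 0 * f₀ + X 1 * f₁ := ⟨_, h⟩
  subst hc
  constructor <;>
  · rw [lc_add, lc_add, lc_mul, lc_mul, lc_C, lc_X, lc_X, constantCoeff_X, constantCoeff_X]
    norm_num

/-- Coordinates adapted to two series with independent linear parts. -/
theorem exists_coord₂ (a b : S) (ha : constantCoeff a = 0) (hb : constantCoeff b = 0)
    (hdet : lc 0 a * lc 1 b - lc 1 a * lc 0 b ≠ 0) :
    ∃ θ : S ≃ₐ[k] S, θ (X 0) = a ∧ θ (X 1) = b := by
  classical
  let A : Fin 2 → S := ![a, b]
  let M : Matrix (Fin 2) (Fin 2) k := Matrix.of fun i j => lc j (A i)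
  have hM : IsUnit M.det := by
    rw [Matrix.det_fin_two, isUnit_iff_ne_zero]
    simpa [M, A] using hdet
  have hA : ∀ i, KumFam.VanishBelow 2 (A i - KumFam.linSubst M i) := by
    intro i d hd
    rw [map_sub, sub_eq_zero, KumFam.linSubst, Fin.sum_univ_two, map_add, coeff_C_mul, coeff_C_mul]
    have h2 : d 0 + d 1 < 2 := by rwa [← degree_fin2]
    by_cases h0 : d = 0
    · subst h0
      simp only [coeff_zero_eq_constantCoeff_apply, constantCoeff_X, mul_zero, add_zero]
      fin_cases i
      · exact ha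
      · exact hb
    · obtain ⟨j, rfl⟩ : ∃ j : Fin 2, d = Finsupp.single j 1 := by
        rcases Nat.eq_zero_or_pos (d 0) with h | h
        · have : d 1 ≠ 0 := fun h' => h0 (Finsupp.ext fun i => by fin_cases i <;> assumption)
          exact ⟨1, Finsupp.ext fun i => by fin_cases i <;> simp <;> omega⟩
        · exact ⟨0, Finsupp.ext fun i => by fin_cases i <;> simp <;> omega⟩
      show lc j (A i) = M i 0 * lc j (X 0) + M i 1 * lc j (X 1)
      rw [lc_X, lc_X]
      fin_cases j <;> simp [M]
  have hs : HasSubst A := hasSubst_of_constantCoeff_zero fun i => by fin_cases i; exacts [ha, hb]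
  obtain ⟨φ, hφ⟩ := KumFam.exists_algEquiv A M hM hA hs
  refine ⟨φ.symm, ?_, ?_⟩
  · rw [AlgEquiv.symm_apply_eq, ← hφ (X 0), substAlgHom_X]; rfl
  · rw [AlgEquiv.symm_apply_eq, ← hφ (X 1), substAlgHom_X]; rfl

/-- A smooth germ is a coordinate. -/
theorem exists_coord (G : S) (hG : constantCoeff G = 0) (hl : ∃ i, lc i G ≠ 0) :
    ∃ θ : S ≃ₐ[k] S, θ (X 1) = G := by
  by_cases h : lc 1 G = 0
  · obtain ⟨i, hi⟩ := hl
    have h0 : lc 0 G ≠ 0 := by fin_cases i; exacts [hi, absurd h hi]
    obtain ⟨θ, -, hθ⟩ := exists_coord₂ (X 1) G (constantCoeff_X 1) hG (by simpa [lc_X] using h0)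
    exact ⟨θ, hθ⟩
  · obtain ⟨θ, -, hθ⟩ := exists_coord₂ (X 0) G (constantCoeff_X 0) hG (by simpa [lc_X] using h)
    exact ⟨θ, hθ⟩

/-- Restriction to the axis `y = 0`. -/
def axisHom : S →+* PowerSeries k where
  toFun f := PowerSeries.mk fun n => coeff (Finsupp.single 0 n) f
  map_one' := by
    classical
    ext n
    rw [PowerSeries.coeff_mk, coeff_one, PowerSeries.coeff_one]
    exact if_congr Finsupp.single_eq_zero rfl rfl
  map_mul' f g := by
    classical
    ext n
    rw [PowerSeries.coeff_mk, coeff_mul, Finsupp.antidiagonal_single, Finset.sum_map,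
      PowerSeries.coeff_mul]
    simp [Prod.map]
  map_zero' := by ext; simp
  map_add' f g := by ext; simp

theorem X_one_dvd_of_axisHom {f : S} (h : axisHom f = 0) : X 1 ∣ f := by
  refine X_dvd_iff.2 fun m hm => ?_
  have := congrArg (PowerSeries.coeff (m 0)) h
  simp only [axisHom, RingHom.coe_mk, MonoidHom.coe_mk, OneHom.coe_mk, PowerSeries.coeff_mk,
    map_zero] at this
  rwa [show m = Finsupp.single 0 (m 0) from Finsupp.ext fun i => by fin_cases i <;> simp [hm]]

theorem prime_X_one : Prime (X 1 : S) := by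
  classical
  have hφX : axisHom (X 1 : S) = 0 := by
    ext n
    simp only [axisHom, RingHom.coe_mk, MonoidHom.coe_mk, OneHom.coe_mk, PowerSeries.coeff_mk,
      map_zero, coeff_X]
    rw [if_neg]
    intro h
    have := congrArg (fun d : Fin 2 →₀ ℕ => d 1) h
    simp at this
  refine ⟨fun h => ?_, fun h => ?_, fun a b hab => ?_⟩
  · have := congrArg (coeff (Finsupp.single (1 : Fin 2) 1)) h
    simp [coeff_X] at this
  · simpa using (isUnit_iff_constantCoeff.1 h)
  · have := map_dvd axisHom hab
    rw [hφX, zero_dvd_iff, map_mul, mul_eq_zero] at this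
    exact this.imp X_one_dvd_of_axisHom X_one_dvd_of_axisHom

/-- A smooth germ is prime. -/
theorem prime_smooth {G : S} (hG : constantCoeff G = 0) (hl : ∃ i, lc i G ≠ 0) : Prime G := by
  obtain ⟨θ, hθ⟩ := exists_coord G hG hl
  rw [← hθ]
  exact (MulEquiv.prime_iff θ.toMulEquiv).2 prime_X_one

/-! ### Recentring -/

variable (a : Fin 2 → k)

/-- The recentred polynomial as a power series. -/
def τ : MvPolynomial (Fin 2) k →ₐ[k] S :=
  (MvPolynomial.coeToMvPowerSeries.algHom k).comp
    (MvPolynomial.aeval fun i : Fin 2 => MvPolynomial.X i + MvPolynomial.C (a i))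

theorem τ_apply (p : MvPolynomial (Fin 2) k) :
    τ a p = (MvPolynomial.aeval (fun i : Fin 2 => MvPolynomial.X i + MvPolynomial.C (a i)) p).toMvPowerSeries := by
  simp [τ]

theorem τ_X (i : Fin 2) : τ a (MvPolynomial.X i) = X i + C (a i) := by
  simp [τ_apply]

theorem τ_C (c : k) : τ a (MvPolynomial.C c) = C c := (τ a).commutes c

theorem constantCoeff_τ (p : MvPolynomial (Fin 2) k) :
    constantCoeff (τ a p) = MvPolynomial.eval a p := by
  induction p using MvPolynomial.induction_on with
  | C c => rw [τ_C, constantCoeff_C, MvPolynomial.eval_C]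
  | add p q hp hq => simp [hp, hq]
  | mul_X p i hp => simp [map_mul, hp, τ_X]

theorem lc_τ (i : Fin 2) (p : MvPolynomial (Fin 2) k) :
    lc i (τ a p) = MvPolynomial.eval a (MvPolynomial.pderiv i p) := by
  induction p using MvPolynomial.induction_on with
  | C c => rw [τ_C, lc_C, MvPolynomial.pderiv_C, map_zero]
  | add p q hp hq => simp [lc_add, hp, hq]
  | mul_X p j hp =>
    rw [map_mul, lc_mul, τ_X, constantCoeff_τ, hp, lc_add, lc_C, lc_X, map_add,
      constantCoeff_X, constantCoeff_C, MvPolynomial.pderiv_mul, map_add, map_mul, map_mul,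
      MvPolynomial.eval_X]
    by_cases h : i = j
    · subst h; simp; ring
    · simp [h, MvPolynomial.pderiv_X_of_ne (Ne.symm h)]

theorem pderiv_τ (i : Fin 2) (p : MvPolynomial (Fin 2) k) :
    MvPowerSeries.pderiv k i (τ a p) = τ a (MvPolynomial.pderiv i p) := by
  induction p using MvPolynomial.induction_on with
  | C c => rw [τ_C, pderiv_C, MvPolynomial.pderiv_C, map_zero]
  | add p q hp hq => simp [hp, hq]
  | mul_X p j hp =>
    rw [map_mul, Derivation.leibniz, hp, τ_X, map_add, pderiv_C, add_zero, pderiv_X,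
      MvPolynomial.pderiv_mul, map_add, map_mul, map_mul, smul_eq_mul, smul_eq_mul, τ_X]
    by_cases h : i = j
    · subst h; simp; ring
    · simp [h, MvPolynomial.pderiv_X_of_ne (Ne.symm h)]; ring

theorem τ_injective : Function.Injective (τ a) := by
  intro p q h
  rw [τ_apply, τ_apply] at h
  have h' := MvPolynomial.coe_injective (σ := Fin 2) (R := k) h
  have := congrArg (MvPolynomial.aeval fun i : Fin 2 => MvPolynomial.X i - MvPolynomial.C (a i)) h'
  have hid : ∀ r : MvPolynomial (Fin 2) k,
      MvPolynomial.aeval (fun i : Fin 2 => MvPolynomial.X i - MvPolynomial.C (a i))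
        (MvPolynomial.aeval (fun i : Fin 2 => MvPolynomial.X i + MvPolynomial.C (a i)) r) = r := by
    intro r
    induction r using MvPolynomial.induction_on with
    | C c => simp
    | add u v hu hv => rw [map_add, map_add, hu, hv]
    | mul_X u j hu => rw [map_mul, map_mul, hu]; simp
  rwa [hid, hid] at this

end Groth.Agent.PlaneCurve
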