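import Groth.Agent.PlaneCurve.Formal

/-! A formal branch lies on at most one irreducible curve, and is simple on it; double lines. -/

set_option autoImplicit false
set_option linter.all false
universe u

noncomputable section

namespace Groth.Agent.PlaneCurve

variable {k : Type u} [Field k]

local notation "S" => MvPowerSeries (Fin 2) k
local notation "P2" => MvPolynomial (Fin 2) k

/-- An ideal strictly containing a prime curve contains a non-zero polynomial in each variable. -/
theorem exists_univariate {p q : P2} (hp : Prime p) (hq : ¬ p ∣ q) (i : Fin 2) :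
    ∃ R : Polynomial k, R ≠ 0 ∧ Polynomial.aeval (MvPolynomial.X i) R ∈ Ideal.span {p, q} := by
  let I : Ideal P2 := Ideal.span {p, q}
  have hprime : (Ideal.span {p}).IsPrime := (Ideal.span_singleton_prime hp.ne_zero).2 hp
  have hmax : ∀ P : Ideal P2, P.IsPrime → I ≤ P → P.IsMaximal := by
    intro P hP hIP
    obtain ⟨M, hM, hPM⟩ := Ideal.exists_le_maximal P hP.ne_top
    by_contra hne
    have h1 : Ideal.span {p} < P := by
      refine lt_of_le_of_ne (Ideal.span_le.2 (Set.singleton_subset_iff.2 (hIP (Ideal.subset_span (by simp))))) ?_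
      intro h
      exact hq (Ideal.mem_span_singleton.1 (h ▸ hIP (Ideal.subset_span (by simp))))
    have h0 : (⊥ : Ideal P2) < Ideal.span {p} :=
      bot_lt_iff_ne_bot.2 fun h => hp.ne_zero (Ideal.span_singleton_eq_bot.1 h)
    have h2 : P < M := lt_of_le_of_ne hPM fun h => hne (h ▸ hM)
    let b : PrimeSpectrum P2 := ⟨⊥, Ideal.isPrime_bot⟩
    let c : PrimeSpectrum P2 := ⟨Ideal.span {p}, hprime⟩
    let d : PrimeSpectrum P2 := ⟨P, hP⟩
    let e : PrimeSpectrum P2 := ⟨M, hM.isPrime⟩
    let l : LTSeries (PrimeSpectrum P2) := LTSeries.mk 3 ![b, c, d, e]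
      (Fin.strictMono_iff_lt_succ.2 fun i => by fin_cases i; exacts [h0, h1, h2])
    have hl : (l.length : WithBot ℕ∞) ≤ ringKrullDim P2 := Order.LTSeries.length_le_krullDim l
    rw [MvPolynomial.ringKrullDim_of_isNoetherianRing, ringKrullDim_eq_zero_of_field, zero_add] at hl
    replace hl : ((3 : ℕ) : WithBot ℕ∞) ≤ ((2 : ℕ) : WithBot ℕ∞) := by simpa [l] using hl
    exact absurd (Nat.cast_le.1 hl) (by omega)
  haveI : Ring.KrullDimLE 0 (P2 ⧸ I) := by
    refine Ring.KrullDimLE.mk₀ fun J hJ => ?_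
    have hJ' : (J.comap (Ideal.Quotient.mk I)).IsPrime := Ideal.IsPrime.comap _
    haveI := hmax _ hJ' (by
      intro x hx
      rw [Ideal.mem_comap, Ideal.Quotient.eq_zero_iff_mem.2 hx]
      exact zero_mem _)
    rw [← Ideal.map_comap_of_surjective _ Ideal.Quotient.mk_surjective J]
    exact Ideal.IsMaximal.map_of_surjective_of_ker_le Ideal.Quotient.mk_surjective
      (fun x hx => by rw [Ideal.mem_comap, RingHom.mem_ker.1 hx]; exact zero_mem _)
  haveI : IsArtinianRing (P2 ⧸ I) :=
    isArtinianRing_iff_isNoetherianRing_krullDimLE_zero.2 ⟨inferInstance, inferInstance⟩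
  haveI : Module.Finite k (P2 ⧸ I) := Module.finite_of_isArtinianRing k (P2 ⧸ I)
  obtain ⟨R, hR, hR0⟩ := IsIntegral.of_finite k (Ideal.Quotient.mk I (MvPolynomial.X i))
  refine ⟨R, hR.ne_zero, Ideal.Quotient.eq_zero_iff_mem.1 ?_⟩
  rw [← Ideal.Quotient.mkₐ_eq_mk k, ← Polynomial.aeval_algHom_apply]
  exact hR0

open MvPowerSeries

variable (a : Fin 2 → k)

/-- A prime germ dividing a univariate polynomial is a coordinate line. -/
theorem dvd_X_of_dvd_univariate {L : S} (hL : Prime L) (hL0 : constantCoeff L = 0) (i : Fin 2)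
    {R : Polynomial k} (hR : R ≠ 0) (h : L ∣ τ a (Polynomial.aeval (MvPolynomial.X i) R)) :
    L ∣ X i := by
  have hT : (R.comp (Polynomial.X + Polynomial.C (a i))) ≠ 0 := fun h0 => hR (by
    have := congrArg (fun t : Polynomial k => t.comp (Polynomial.X - Polynomial.C (a i))) h0
    simpa [Polynomial.comp_assoc] using this)
  rw [← Polynomial.aeval_algHom_apply, τ_X, show (X i : S) + C (a i) =
      Polynomial.aeval (X i : S) (Polynomial.X + Polynomial.C (a i)) by
        rw [map_add, Polynomial.aeval_X, Polynomial.aeval_C]; rfl,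
    ← Polynomial.aeval_comp] at h
  obtain ⟨T', hT', hT0⟩ := (R.comp (Polynomial.X + Polynomial.C (a i))).exists_eq_pow_rootMultiplicity_mul_and_not_dvd hT 0
  rw [Polynomial.C_0, sub_zero] at hT' hT0
  rw [hT', map_mul, map_pow, Polynomial.aeval_X] at h
  have hu : IsUnit (Polynomial.aeval (X i : S) T') := by
    rw [MvPowerSeries.isUnit_iff_constantCoeff, isUnit_iff_ne_zero]
    intro h0
    refine hT0 (Polynomial.X_dvd_iff.2 ?_)
    rw [← h0, Polynomial.aeval_def, Polynomial.hom_eval₂, constantCoeff_X]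
    rw [show (constantCoeff : S →+* k).comp (algebraMap k S) = RingHom.id k from
      RingHom.ext fun c => by simp [MvPowerSeries.algebraMap_apply], Polynomial.eval₂_at_zero, RingHom.id_apply]
  exact hL.dvd_of_dvd_pow (hu.dvd_mul_right.1 h)

/-- A smooth branch lies on at most one irreducible curve. -/
theorem no_common_branch {L : S} (hL0 : constantCoeff L = 0) (hl : ∃ i, lc i L ≠ 0)
    {p q : P2} (hp : Prime p) (hq : ¬ p ∣ q) (h1 : L ∣ τ a p) (h2 : L ∣ τ a q) : False := by
  have hL := prime_smooth hL0 hl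
  have hX : ∀ i, L ∣ X i := by
    intro i
    obtain ⟨R, hR, hmem⟩ := exists_univariate hp hq i
    refine dvd_X_of_dvd_univariate a hL hL0 i hR ?_
    obtain ⟨u, v, huv⟩ := Ideal.mem_span_pair.1 hmem
    rw [← huv, map_add, map_mul, map_mul]
    exact dvd_add (h1.mul_left _) (h2.mul_left _)
  obtain ⟨c, hc⟩ := hX 0
  obtain ⟨d, hd⟩ := hX 1
  have e00 := congrArg (lc 0) hc
  have e10 := congrArg (lc 1) hc
  have e11 := congrArg (lc 1) hd
  simp only [lc_X, lc_mul, hL0, zero_mul, zero_add, if_true, if_false,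
    show ((1 : Fin 2) = 0) = False by simp] at e00 e10 e11
  replace e10 := e10.symm
  rcases mul_eq_zero.1 e10 with h | h
  · rw [h, zero_mul] at e11; exact one_ne_zero e11
  · rw [h, mul_zero] at e00; exact one_ne_zero e00

theorem totalDegree_pderiv_lt {p : P2} (i : Fin 2) (h : MvPolynomial.pderiv i p ≠ 0) :
    (MvPolynomial.pderiv i p).totalDegree < p.totalDegree := by
  classical
  have key : ∀ d ∈ (MvPolynomial.pderiv i p).support, (d.sum fun _ e => e) + 1 ≤ p.totalDegree := by
    intro d hd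
    rw [MvPolynomial.mem_support_iff, MvPolynomial.coeff_pderiv] at hd
    have hd' : d + Finsupp.single i 1 ∈ p.support :=
      MvPolynomial.mem_support_iff.2 fun h0 => hd (by rw [h0]; simp)
    have := MvPolynomial.le_totalDegree hd'
    rwa [Finsupp.sum_add_index' (fun _ => rfl) (fun _ _ _ => rfl),
      Finsupp.sum_single_index (h := fun _ e => e) rfl] at this
  obtain ⟨d, hd⟩ : ∃ d, d ∈ (MvPolynomial.pderiv i p).support := by
    obtain ⟨d, hd⟩ := MvPolynomial.exists_coeff_ne_zero h
    exact ⟨d, MvPolynomial.mem_support_iff.2 hd⟩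
  rw [MvPolynomial.totalDegree, Finset.sup_lt_iff (by have := key d hd; exact Nat.lt_of_lt_of_le (Nat.succ_pos _) this)]
  intro e he
  exact Nat.lt_of_succ_le (key e he)

/-- An irreducible polynomial over a perfect field does not divide all its derivatives. -/
theorem exists_not_dvd_pderiv [IsAlgClosed k] {p : P2} (hp : Prime p) :
    ∃ i, ¬ p ∣ MvPolynomial.pderiv i p := by
  classical
  by_contra hall
  push_neg at hall
  have hz : ∀ i, MvPolynomial.pderiv i p = 0 := by
    intro i
    by_contra h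
    obtain ⟨c, hc⟩ := hall i
    have hc0 : c ≠ 0 := fun h0 => h (by rw [hc, h0, mul_zero])
    have := totalDegree_pderiv_lt i h
    rw [hc, MvPolynomial.totalDegree_mul_of_isDomain hp.ne_zero hc0] at this
    omega
  have hexp : ∀ d ∈ p.support, ∀ i, ((d i : ℕ) : k) = 0 := by
    intro d hd i
    rcases Nat.eq_zero_or_pos (d i) with h | h
    · rw [h, Nat.cast_zero]
    · have := congrArg (MvPolynomial.coeff (d - Finsupp.single i 1)) (hz i)
      rw [MvPolynomial.coeff_pderiv, MvPolynomial.coeff_zero,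
        show d - Finsupp.single i 1 + Finsupp.single i 1 = d from
          tsub_add_cancel_of_le (Finsupp.single_le_iff.2 h)] at this
      rcases mul_eq_zero.1 this with h' | h'
      · exact absurd h' (MvPolynomial.mem_support_iff.1 hd)
      · rw [Finsupp.coe_tsub, Pi.sub_apply, Finsupp.single_eq_same] at h'
        rwa [← Nat.cast_add_one, Nat.sub_add_cancel h] at h'
  rcases ExpChar.exists k with ⟨q, hq⟩
  cases hq with
  | zero =>
    have hsupp : ∀ d ∈ p.support, d = 0 := fun d hd =>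
      Finsupp.ext fun i => by simpa using (Nat.cast_eq_zero (R := k)).1 (hexp d hd i)
    have hpC : p = MvPolynomial.C (MvPolynomial.coeff 0 p) := by
      refine MvPolynomial.ext _ _ fun d => ?_
      rw [MvPolynomial.coeff_C]
      split_ifs with h
      · rw [h]
      · by_contra h'
        exact h (hsupp d (MvPolynomial.mem_support_iff.2 h')).symm
    refine hp.not_unit ?_
    rw [hpC]
    refine (isUnit_iff_ne_zero.2 fun h0 => hp.ne_zero ?_).map _
    rw [hpC, h0, map_zero]
  | prime hpr =>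
    haveI : Fact q.Prime := ⟨hpr⟩
    have hroot : ∀ c : k, ∃ r, r ^ q = c := fun c => IsAlgClosed.exists_pow_nat_eq c hpr.pos
    choose r hr using hroot
    let g : P2 := ∑ d ∈ p.support,
      MvPolynomial.monomial (d.mapRange (fun n => n / q) (Nat.zero_div q)) (r (MvPolynomial.coeff d p))
    have hpg : p = g ^ q := by
      haveI : CharP P2 q := inferInstance
      rw [sum_pow_char q]
      conv_lhs => rw [p.as_sum]
      refine Finset.sum_congr rfl fun d hd => ?_
      rw [MvPolynomial.monomial_pow, hr]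
      congr 2
      refine Finsupp.ext fun i => ?_
      rw [Finsupp.coe_smul, Pi.smul_apply, Finsupp.mapRange_apply, smul_eq_mul]
      exact (Nat.mul_div_cancel' ((CharP.cast_eq_zero_iff k q _).1 (hexp d hd i))).symm
    exact hp.irreducible.not_isUnit (by
      have := hp.irreducible
      rw [hpg] at this
      exact absurd this (not_irreducible_pow hpr.ne_one))

/-- A double formal branch of a polynomial comes from a square factor. -/
theorem exists_sq_factor [IsAlgClosed k] {f : P2} {L U : S} (hU : IsUnit U)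
    (hL0 : constantCoeff L = 0) (hl : ∃ i, lc i L ≠ 0) (hf : τ a f = U * L ^ 2) :
    ∃ g h : P2, f = g ^ 2 * h ∧ MvPolynomial.eval a h ≠ 0 ∧ MvPolynomial.eval a g = 0 ∧
      ∃ i, MvPolynomial.eval a (MvPolynomial.pderiv i g) ≠ 0 := by
  have hL := prime_smooth hL0 hl
  have hdiv : ∀ g : P2, L ∣ τ a g → g ≠ 0 → ∃ p, Prime p ∧ p ∣ g ∧ L ∣ τ a p := by
    intro g
    induction g using UniqueFactorizationMonoid.induction_on_prime with
    | h₁ => intro _ h; exact absurd rfl h
    | h₂ x hx =>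
      intro h _
      exact absurd (isUnit_of_dvd_unit h (hx.map (τ a))) hL.not_unit
    | h₃ b p hb hp ih =>
      intro h _
      rw [map_mul] at h
      rcases hL.dvd_or_dvd h with h | h
      · exact ⟨p, hp, dvd_mul_right _ _, h⟩
      · obtain ⟨p', h1, h2, h3⟩ := ih h hb
        exact ⟨p', h1, h2.mul_left _, h3⟩
  have hf0 : f ≠ 0 := fun h => by
    rw [h, map_zero, eq_comm, mul_eq_zero] at hf
    exact hf.elim hU.ne_zero (pow_ne_zero _ hL.ne_zero)
  obtain ⟨p, hp, ⟨f', rfl⟩, hLp⟩ := hdiv f (by rw [hf]; exact (dvd_pow_self L two_ne_zero).mul_left U) hf0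
  by_cases hLf : L ∣ τ a f'
  · obtain ⟨p', hp', ⟨h, rfl⟩, hLp'⟩ := hdiv f' hLf (right_ne_zero_of_mul hf0)
    have hpp : p ∣ p' := by
      by_contra hne
      exact no_common_branch a hL0 hl hp hne hLp hLp'
    obtain ⟨w, rfl⟩ := hpp
    have hw : IsUnit w := (hp'.irreducible.isUnit_or_isUnit rfl).resolve_left hp.not_unit
    obtain ⟨c, hc⟩ := hLp
    refine ⟨p, w * h, by ring, ?_⟩
    simp only [map_mul] at hf
    rw [hc] at hf
    have key : (c ^ 2 * (τ a w * τ a h)) = U := by
      refine mul_right_cancel₀ (pow_ne_zero 2 hL.ne_zero) ?_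
      linear_combination hf
    have hu := key ▸ hU
    obtain ⟨hc2, hwh⟩ := IsUnit.mul_iff.1 hu
    have hcu : IsUnit c := (isUnit_pow_iff two_ne_zero).1 hc2
    refine ⟨?_, ?_, ?_⟩
    · rw [← constantCoeff_τ, map_mul]
      exact (MvPowerSeries.isUnit_iff_constantCoeff.1 hwh).ne_zero
    · rw [← constantCoeff_τ, hc, map_mul, hL0, zero_mul]
    · obtain ⟨i, hi⟩ := hl
      refine ⟨i, ?_⟩
      rw [← lc_τ, hc, lc_mul, hL0, zero_mul, zero_add]
      exact mul_ne_zero hi (MvPowerSeries.isUnit_iff_constantCoeff.1 hcu).ne_zero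
  · exfalso
    have hsq : L ^ 2 ∣ τ a p := by
      have h2 : L ^ 2 ∣ τ a p * τ a f' := by rw [← map_mul, hf]; exact dvd_mul_left _ _
      exact hL.pow_dvd_of_dvd_mul_right 2 hLf h2
    obtain ⟨i, hi⟩ := exists_not_dvd_pderiv hp
    refine no_common_branch a hL0 hl hp hi hLp ?_
    obtain ⟨c, hc⟩ := hsq
    rw [← pderiv_τ, hc, Derivation.leibniz, smul_eq_mul, smul_eq_mul, sq, Derivation.leibniz,
      smul_eq_mul]
    exact dvd_add (dvd_mul_of_dvd_left (dvd_mul_right _ _) _)
      (dvd_mul_of_dvd_right (dvd_add (dvd_mul_right _ _) (dvd_mul_right _ _)) _)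

theorem split_mod {G : S} {I : Ideal S} (hG : G ∈ I) (hI : ∀ g ∈ I, constantCoeff g = 0 ∧ ∀ i, lc i g = 0)
    (F : S) : constantCoeff (F + G) = constantCoeff F ∧ ∀ i, lc i (F + G) = lc i F := by
  obtain ⟨h0, h1⟩ := hI G hG
  exact ⟨by rw [map_add, h0, add_zero], fun i => by rw [lc_add, h1, add_zero]⟩

/-- Generators of the maximal ideal modulo a singular equation. -/
theorem exists_generators {F : S} (hF0 : constantCoeff F = 0) (hF1 : ∀ i, lc i F = 0)
    {B : Type u} [CommRing B] [Algebra k B] (e : (S ⧸ Ideal.span {F}) ≃ₐ[k] B) (x y : B)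
    (hx : ¬ IsUnit x) (hy : ¬ IsUnit y)
    (hgen : ∀ b : B, ∃ c : k, ∃ u v : B, b = algebraMap k B c + u * x + v * y) :
    ∃ P Q : S, e (Ideal.Quotient.mk _ P) = x ∧ e (Ideal.Quotient.mk _ Q) = y ∧
      constantCoeff P = 0 ∧ constantCoeff Q = 0 ∧ lc 0 P * lc 1 Q - lc 1 P * lc 0 Q ≠ 0 := by
  obtain ⟨P, hP⟩ := Ideal.Quotient.mk_surjective (e.symm x)
  obtain ⟨Q, hQ⟩ := Ideal.Quotient.mk_surjective (e.symm y)
  have hnu : ∀ (T : S) (b : B), Ideal.Quotient.mk _ T = e.symm b → ¬ IsUnit b → constantCoeff T = 0 := by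
    intro T b hT hb
    by_contra h
    refine hb ?_
    have := ((MvPowerSeries.isUnit_iff_constantCoeff.2 (isUnit_iff_ne_zero.2 h)).map
      (Ideal.Quotient.mk (Ideal.span {F}))).map e
    rwa [hT, AlgEquiv.apply_symm_apply] at this
  have hP0 := hnu P x hP hx
  have hQ0 := hnu Q y hQ hy
  refine ⟨P, Q, by rw [hP, AlgEquiv.apply_symm_apply], by rw [hQ, AlgEquiv.apply_symm_apply], hP0,
    hQ0, ?_⟩
  have hcomb : ∀ i : Fin 2, ∃ u v : k, ∀ j, (if j = i then (1 : k) else 0) = u * lc j P + v * lc j Q := by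
    intro i
    obtain ⟨c, u, v, hb⟩ := hgen (e (Ideal.Quotient.mk _ (X i)))
    obtain ⟨u', hu'⟩ := Ideal.Quotient.mk_surjective (e.symm u)
    obtain ⟨v', hv'⟩ := Ideal.Quotient.mk_surjective (e.symm v)
    have hb' := congrArg e.symm hb
    rw [AlgEquiv.symm_apply_apply, map_add, map_add, map_mul, map_mul, ← hu', ← hv', ← hP, ← hQ,
      AlgEquiv.commutes, ← map_mul, ← map_mul,
      show algebraMap k (S ⧸ Ideal.span {F}) c = Ideal.Quotient.mk _ (C c) from rfl, ← map_add,
      ← map_add, Ideal.Quotient.mk_eq_mk_iff_sub_mem, Ideal.mem_span_singleton'] at hb'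
    obtain ⟨w, hw⟩ := hb'
    refine ⟨constantCoeff u', constantCoeff v', fun j => ?_⟩
    have := congrArg (lc j) (show (X i : S) = C c + u' * P + v' * Q + w * F by linear_combination -hw)
    simp only [lc_add, lc_mul, lc_C, lc_X, hP0, hQ0, hF0, hF1, mul_zero, add_zero, zero_add] at this
    exact this
  obtain ⟨u0, v0, h0⟩ := hcomb 0
  obtain ⟨u1, v1, h1⟩ := hcomb 1
  intro hdet
  have a00 := h0 0
  have a01 := h0 1
  have a10 := h1 0
  have a11 := h1 1
  simp only [if_true, show ((1 : Fin 2) = 0) = False by simp, show ((0 : Fin 2) = 1) = False by simp,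
    if_false] at a00 a01 a10 a11
  exact one_ne_zero (show (1 : k) = 0 by
    linear_combination (u1 * lc 1 P + v1 * lc 1 Q) * a00 - (u1 * lc 0 P + v1 * lc 0 Q) * a01 + a11 + (u0 * v1 - v0 * u1) * hdet)

local notation "B2" => (S ⧸ Ideal.span ({(X 1 : S) ^ 2} : Set S))

theorem iso_of_eq {F G U : S} (hU : IsUnit U) (hG0 : constantCoeff G = 0) (hl : ∃ i, lc i G ≠ 0)
    (hF : F = G ^ 2 * U) : Nonempty ((S ⧸ Ideal.span {F}) ≃ₐ[k] B2) := by
  obtain ⟨θ, hθ⟩ := exists_coord G hG0 hl
  refine ⟨(Ideal.quotientEquivAlg _ _ θ ?_).symm⟩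
  rw [Ideal.map_span, Set.image_singleton, hF, Ideal.span_singleton_mul_right_unit hU]
  congr 2
  show G ^ 2 = θ (X 1 ^ 2)
  rw [map_pow, hθ]

/-- The completed local ring is a double line iff the equation has a double smooth factor. -/
theorem double_line_iff [IsAlgClosed k] (f : P2) :
    Nonempty ((S ⧸ Ideal.span {τ a f}) ≃ₐ[k] B2) ↔
      ∃ g h : P2, f = g ^ 2 * h ∧ MvPolynomial.eval a h ≠ 0 ∧ MvPolynomial.eval a g = 0 ∧
        ∃ i, MvPolynomial.eval a (MvPolynomial.pderiv i g) ≠ 0 := by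
  constructor
  · rintro ⟨e⟩
    set F := τ a f
    let mk2 : S →+* B2 := Ideal.Quotient.mk _
    have hnu : ∀ i, ¬ IsUnit (mk2 (X i)) := by
      intro i hi
      obtain ⟨b, hb⟩ := isUnit_iff_exists_inv.1 hi
      obtain ⟨b, rfl⟩ := Ideal.Quotient.mk_surjective b
      rw [← map_mul, ← map_one mk2, Ideal.Quotient.mk_eq_mk_iff_sub_mem,
        Ideal.mem_span_singleton'] at hb
      obtain ⟨w, hw⟩ := hb
      simpa using congrArg constantCoeff hw
    have hy2 : mk2 (X 1) ^ 2 = 0 := by
      rw [← map_pow]; exact Ideal.Quotient.eq_zero_iff_mem.2 (Ideal.mem_span_singleton_self _)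
    have hy0 : mk2 (X 1) ≠ 0 := by
      intro h
      obtain ⟨w, hw⟩ := Ideal.mem_span_singleton'.1 (Ideal.Quotient.eq_zero_iff_mem.1 h)
      have := congrArg (lc 1) hw
      rw [sq, lc_mul, lc_mul, map_mul, constantCoeff_X, lc_X] at this
      simp at this
    have hF0 : constantCoeff F = 0 := by
      by_contra h
      have htop : Ideal.span {F} = ⊤ := Ideal.span_singleton_eq_top.2
        (MvPowerSeries.isUnit_iff_constantCoeff.2 (isUnit_iff_ne_zero.2 h))
      haveI : Subsingleton (S ⧸ Ideal.span {F}) := Ideal.Quotient.subsingleton_iff.2 htop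
      exact hy0 (by
        have := Subsingleton.elim (e.symm (mk2 (X 1))) (e.symm 0)
        simpa using congrArg e this)
    have hF1 : ∀ i, lc i F = 0 := by
      by_contra hne
      push_neg at hne
      haveI : (Ideal.span {F}).IsPrime :=
        (Ideal.span_singleton_prime (prime_smooth hF0 hne).ne_zero).2 (prime_smooth hF0 hne)
      have h0 : e.symm (mk2 (X 1)) ^ 2 = 0 := by rw [← map_pow, hy2, map_zero]
      exact hy0 (by simpa using congrArg e (eq_zero_of_pow_eq_zero h0))
    have hgen : ∀ b : B2, ∃ c : k, ∃ u v : B2,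
        b = algebraMap k B2 c + u * mk2 (X 0) + v * mk2 (X 1) := by
      intro b
      obtain ⟨b, rfl⟩ := Ideal.Quotient.mk_surjective b
      obtain ⟨b0, b1, hb⟩ := exists_split b
      refine ⟨constantCoeff b, mk2 b0, mk2 b1, ?_⟩
      conv_lhs => rw [hb]
      rw [map_add, map_add, map_mul, map_mul, mul_comm (mk2 b0), mul_comm (mk2 b1)]
      rfl
    obtain ⟨P, Q, -, hQ, -, hQ0, hdet⟩ :=
      exists_generators hF0 hF1 e (mk2 (X 0)) (mk2 (X 1)) (hnu 0) (hnu 1) hgen
    have hlQ : ∃ i, lc i Q ≠ 0 := by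
      by_contra h
      push_neg at h
      exact hdet (by rw [h, h]; ring)
    have hdvd : F ∣ Q ^ 2 := by
      rw [← Ideal.mem_span_singleton, ← Ideal.Quotient.eq_zero_iff_mem, map_pow]
      apply e.injective
      rw [map_pow, hQ, hy2, map_zero]
    have hQp := prime_smooth hQ0 hlQ
    obtain ⟨i, hi, hassoc⟩ := (dvd_prime_pow hQp 2).1 hdvd
    obtain ⟨w, hw⟩ := hassoc.symm
    interval_cases i
    · exfalso
      rw [pow_zero, one_mul] at hw
      exact (MvPowerSeries.isUnit_iff_constantCoeff.1 (hw ▸ w.isUnit)).ne_zero hF0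
    · exfalso
      obtain ⟨j, hj⟩ := hlQ
      have := congrArg (lc j) hw
      rw [pow_one, lc_mul, hQ0, zero_mul, zero_add, hF1] at this
      exact mul_ne_zero hj (MvPowerSeries.isUnit_iff_constantCoeff.1 w.isUnit).ne_zero this
    · exact exists_sq_factor a w.isUnit hQ0 hlQ (hw.symm.trans (mul_comm _ _))
  · rintro ⟨g, h, rfl, hh, hg, i, hi⟩
    refine iso_of_eq (G := τ a g) (U := τ a h) ?_ (by rw [constantCoeff_τ, hg]) ⟨i, by rwa [lc_τ]⟩
      (by rw [map_mul, map_pow])
    rw [MvPowerSeries.isUnit_iff_constantCoeff, constantCoeff_τ]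
    exact isUnit_iff_ne_zero.2 hh

end Groth.Agent.PlaneCurve
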