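import Groth.Agent.PlaneCurve.Branch
import Groth.Agent.ArNF.PS
import Groth.Prelude.Def_W4c1arstab1appArSing

/-! Double points of formal plane curves. -/

set_option autoImplicit false
set_option linter.all false
universe u

noncomputable section

namespace Groth.Agent.PlaneCurve

variable {k : Type u} [Field k]

open MvPowerSeries

local notation "S" => MvPowerSeries (Fin 2) k
local notation "P1" => PowerSeries k

/-- A series in `x` alone. -/
def ι : P1 →ₐ[k] S := PowerSeries.substAlgHom (PowerSeries.HasSubst.X (0 : Fin 2))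

theorem ι_X : ι (PowerSeries.X : P1) = (X 0 : S) := PowerSeries.substAlgHom_X _

theorem coeff_ι (g : P1) (d : Fin 2 →₀ ℕ) :
    coeff d (ι g) = if d 1 = 0 then PowerSeries.coeff (d 0) g else 0 := by
  show coeff d (PowerSeries.substAlgHom _ g) = _
  rw [PowerSeries.coe_substAlgHom, PowerSeries.coeff_subst_single]
  refine if_congr ⟨fun h => ?_, fun h => ?_⟩ rfl rfl
  · rw [h]; simp
  · ext i; fin_cases i <;> simp [h]

theorem axis_ι (g : P1) : axisHom (ι g : S) = g := by
  ext n
  show PowerSeries.coeff n (PowerSeries.mk fun n => coeff (Finsupp.single 0 n) (ι g : S)) = _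
  rw [PowerSeries.coeff_mk, coeff_ι]
  simp

theorem ι_dvd {g : P1} (h : (X 1 : S) ∣ ι g) : g = 0 := by
  obtain ⟨c, hc⟩ := h
  have := congrArg axisHom hc
  rw [axis_ι, map_mul] at this
  rw [this, show axisHom (X 1 : S) = 0 from ?_, zero_mul]
  ext n
  show PowerSeries.coeff n (PowerSeries.mk fun n => coeff (Finsupp.single (0 : Fin 2) n) (X 1 : S)) = _
  rw [PowerSeries.coeff_mk, coeff_X, if_neg, map_zero]
  intro h
  have := congrArg (fun d : Fin 2 →₀ ℕ => d 1) h
  simp at this

theorem exists_axis_split (f : S) : ∃ f₁ : S, f = ι (axisHom f) + X 1 * f₁ := by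
  obtain ⟨f₁, h⟩ := X_one_dvd_of_axisHom (f := f - ι (axisHom f))
    (by rw [map_sub, axis_ι, sub_self])
  exact ⟨f₁, by rw [← h]; ring⟩

theorem constantCoeff_ι (g : P1) : constantCoeff (ι g : S) = PowerSeries.constantCoeff g := by
  rw [← coeff_zero_eq_constantCoeff_apply, coeff_ι, if_pos (by simp)]
  rw [Finsupp.coe_zero, Pi.zero_apply, PowerSeries.coeff_zero_eq_constantCoeff_apply]

theorem pderiv_ι (g : P1) : MvPowerSeries.pderiv k (1 : Fin 2) (ι g : S) = 0 := by
  ext d
  rw [coeff_pderiv, coeff_ι, if_neg (by simp), map_zero, zero_mul]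

/-- Homomorphisms `k⟦t⟧ → k⟦x, y⟧` are determined by the image of `t`. -/
theorem ι_ext (θ : S ≃ₐ[k] S) (h : θ (X 0) = X 0) (g : P1) : θ (ι g) = ι g := by
  ext d
  obtain ⟨G, hG⟩ : ∃ G : P1, g = PowerSeries.X ^ (d.degree + 1) * G +
      ((PowerSeries.trunc (d.degree + 1) g : Polynomial k) : P1) :=
    ⟨_, PowerSeries.eq_X_pow_mul_shift_add_trunc (d.degree + 1) g⟩
  have hp : ∀ p : Polynomial k, θ (ι (p : P1)) = ι (p : P1) := by
    intro p
    induction p using Polynomial.induction_on' with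
    | add p q hp hq => rw [Polynomial.coe_add, map_add, map_add, hp, hq]
    | monomial n a =>
      rw [Polynomial.coe_monomial, PowerSeries.monomial_eq_C_mul_X_pow, map_mul, map_mul, map_pow,
        map_pow, ι_X, h]
      congr 1
      exact (θ.toAlgHom.comp ι).commutes a |>.trans (ι.commutes a).symm
  have hz : ∀ A : S, coeff d ((X 0 : S) ^ (d.degree + 1) * A) = 0 := fun A =>
    X_pow_dvd_iff.1 (dvd_mul_right _ A) d (Nat.lt_succ_of_le (by rw [degree_fin2]; omega))
  rw [hG, map_add ι, map_mul ι, map_pow ι, ι_X, map_add θ, map_mul θ, map_pow θ, h, hp, map_add,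
    map_add, hz, hz]

/-- A root of a germ with non-vanishing `y`-derivative. -/
theorem exists_root {G : S} (hG : constantCoeff G = 0) (hl : lc 1 G ≠ 0) :
    ∃ ψ : P1, PowerSeries.constantCoeff ψ = 0 ∧ G ∣ X 1 - ι ψ ∧ ∀ g : P1, G ∣ ι g → g = 0 := by
  obtain ⟨θ, hθ0, hθ1⟩ := exists_coord₂ (X 0) G (constantCoeff_X 0) hG (by simpa [lc_X] using hl)
  obtain ⟨H, hH⟩ := θ.surjective (X 1)
  obtain ⟨R, hR⟩ := exists_axis_split H
  have hdiv : ∀ g : P1, G ∣ ι g → g = 0 := by
    intro g hg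
    refine ι_dvd ?_
    have := map_dvd θ.symm hg
    rwa [show θ.symm G = X 1 by rw [AlgEquiv.symm_apply_eq, hθ1],
      show θ.symm (ι g) = ι g by rw [AlgEquiv.symm_apply_eq, ι_ext θ hθ0]] at this
  have he : X 1 = ι (axisHom H) + G * θ R := by
    conv_lhs => rw [← hH, hR, map_add, map_mul, hθ1, ι_ext θ hθ0]
  refine ⟨axisHom H, ?_, ⟨θ R, by linear_combination he⟩, hdiv⟩
  have := congrArg constantCoeff he
  rw [constantCoeff_X, map_add, map_mul, hG, zero_mul, add_zero, constantCoeff_ι] at this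
  exact this.symm

/-- Square roots of units. -/
theorem exists_sqrt [IsAlgClosed k] (h2 : (2 : k) ≠ 0) {U : S} (hU : IsUnit U) :
    ∃ R : S, IsUnit R ∧ R * R = U := by
  have hc : constantCoeff U ≠ 0 := (MvPowerSeries.isUnit_iff_constantCoeff.1 hU).ne_zero
  obtain ⟨c, hcc⟩ := IsAlgClosed.exists_eq_mul_self (constantCoeff U)
  have hc0 : c ≠ 0 := fun h => hc (by rw [hcc, h, mul_zero])
  let P : P1 := PowerSeries.C (2 : k) * PowerSeries.X + PowerSeries.X * PowerSeries.X
  have hP0 : PowerSeries.constantCoeff P = 0 := by simp [P]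
  have hP1 : PowerSeries.coeff 1 P ≠ 0 := by
    simpa [P, PowerSeries.coeff_one_mul] using h2
  obtain ⟨u, hu⟩ := (ArNF.sb_bijective P hP0 hP1).2 PowerSeries.X
  obtain ⟨v, hv⟩ : ∃ v : P1, PowerSeries.C (2 : k) * v + v * v = PowerSeries.X ∧
      PowerSeries.constantCoeff v = 0 := by
    have hu0 : PowerSeries.constantCoeff u = 0 := by
      rw [← ArNF.constantCoeff_sb P hP0 u, hu, PowerSeries.constantCoeff_X]
    refine ⟨u, ?_, hu0⟩
    have e : (ArNF.sb u hu0).comp (ArNF.sb P hP0) = AlgHom.id k P1 := by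
      refine ArNF.algHom_ext_X ((ArNF.sb_bijective P hP0 hP1).1 ?_)
      have := AlgHom.congr_fun (ArNF.sb_comp (ArNF.sb P hP0) u hu0) P
      simp only [AlgHom.comp_apply, ArNF.sb_X, AlgHom.id_apply] at this ⊢
      rw [this]
      have e2 : ArNF.sb (ArNF.sb P hP0 u) (by rw [hu, PowerSeries.constantCoeff_X]) P = P :=
        ArNF.eq_id_of_map_X _ (by rw [ArNF.sb_X, hu]) P
      exact e2
    have h := AlgHom.congr_fun e PowerSeries.X
    simp only [AlgHom.comp_apply, ArNF.sb_X, AlgHom.id_apply] at h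
    simp only [P, map_add, map_mul, ArNF.sb_X] at h
    rwa [show ArNF.sb u hu0 (PowerSeries.C (2 : k)) = PowerSeries.C (2 : k) from
      (ArNF.sb u hu0).commutes _] at h
  obtain ⟨hv, hv0⟩ := hv
  let t : S := C (c * c)⁻¹ * U - 1
  have ht : constantCoeff t = 0 := by
    simp only [t, map_sub, map_mul, constantCoeff_C, map_one, hcc]
    field_simp
    ring
  let E : P1 →ₐ[k] S := PowerSeries.substAlgHom (PowerSeries.HasSubst.of_constantCoeff_zero ht)
  have hE : C (2 : k) * E v + E v * E v = t := by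
    have := congrArg E hv
    rw [map_add, map_mul, map_mul, PowerSeries.substAlgHom_X,
      show E (PowerSeries.C (2 : k)) = C (2 : k) from E.commutes _] at this
    exact this
  have hUe : C c * C c * (1 + t) = U := by
    simp only [t, add_sub_cancel]
    rw [← mul_assoc, ← map_mul, ← map_mul, mul_inv_cancel₀ (mul_ne_zero hc0 hc0), map_one, one_mul]
  have heq : C c * (1 + E v) * (C c * (1 + E v)) = U := by
    rw [← hUe, ← hE, show (C (2 : k) : S) = 2 from map_ofNat C 2]
    ring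
  exact ⟨_, isUnit_of_mul_isUnit_left (heq.symm ▸ hU), heq⟩

local notation "B2" => (S ⧸ Ideal.span ({(X 1 : S) ^ 2} : Set S))

/-- The completed local ring is a double line or an `A_n`. -/
def Good (F : S) : Prop :=
  (∃ n : ℕ, Nonempty ((S ⧸ Ideal.span {F}) ≃ₐ[k] ArSing.ring k n)) ∨
    Nonempty ((S ⧸ Ideal.span {F}) ≃ₐ[k] B2)

theorem Good.of_aut {F : S} (θ : S ≃ₐ[k] S) (h : Good (θ F)) : Good F := by
  have e : (S ⧸ Ideal.span {F}) ≃ₐ[k] (S ⧸ Ideal.span {θ F}) :=
    Ideal.quotientEquivAlg _ _ θ (by rw [Ideal.map_span, Set.image_singleton]; rfl)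
  rcases h with ⟨n, ⟨g⟩⟩ | h
  · exact Or.inl ⟨n, ⟨e.trans g⟩⟩
  · obtain ⟨g⟩ := h
    exact Or.inr ⟨e.trans g⟩

theorem cc_pderiv (i : Fin 2) (f : S) :
    constantCoeff (MvPowerSeries.pderiv k i f) = lc i f := by
  rw [← coeff_zero_eq_constantCoeff_apply, coeff_pderiv, zero_add]
  simp [lc]

/-- The second derivative at the origin. -/
def hess (i j : Fin 2) (f : S) : k := lc i (MvPowerSeries.pderiv k j f)

theorem hess_mul (i j : Fin 2) {g h : S} (hg : constantCoeff g = 0) (hh : constantCoeff h = 0) (R : S) :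
    hess i j (g * h * R) = (lc i g * lc j h + lc j g * lc i h) * constantCoeff R := by
  simp only [hess, Derivation.leibniz, smul_eq_mul, lc_add, lc_mul, map_mul, map_add, cc_pderiv,
    hg, hh, zero_mul, mul_zero, add_zero, zero_add]
  ring

theorem hess_add (i j : Fin 2) (f g : S) : hess i j (f + g) = hess i j f + hess i j g := by
  simp [hess, lc_add]

/-- Normal form when the `y²` coefficient does not vanish. -/
theorem good_of_hess [IsAlgClosed k] (h2 : (2 : k) ≠ 0) {F : S} (hF0 : constantCoeff F = 0)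
    (hF1 : lc 1 F = 0) (hH : hess 1 1 F ≠ 0) : Good F := by
  obtain ⟨ψ, hψ0, hGψ, hdiv⟩ := exists_root (G := MvPowerSeries.pderiv k (1 : Fin 2) F)
    (by rw [cc_pderiv, hF1]) hH
  obtain ⟨Θ, hΘ0, hΘ1⟩ := exists_coord₂ (X 0) (X 1 - ι ψ) (constantCoeff_X 0)
    (by rw [map_sub, constantCoeff_X, constantCoeff_ι, hψ0, sub_zero])
    (by
      have : lc 1 (ι ψ : S) = 0 := by
        rw [← cc_pderiv, pderiv_ι, map_zero]
      simp [lc_sub, lc_X, this])
  obtain ⟨F', rfl⟩ := Θ.surjective F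
  obtain ⟨F₁, hF'⟩ := exists_axis_split F'
  obtain ⟨F₂, hF₁⟩ := exists_axis_split F₁
  generalize hφ₀ : axisHom F' = φ₀ at hF'
  generalize hφ₁ : axisHom F₁ = φ₁ at hF₁
  set z : S := X 1 - ι ψ with hz
  have hzd : MvPowerSeries.pderiv k (1 : Fin 2) z = 1 := by
    rw [hz, map_sub, pderiv_ι, pderiv_X_self, sub_zero]
  have hF : Θ F' = ι φ₀ + z * ι φ₁ + z * z * Θ F₂ := by
    conv_lhs => rw [hF', hF₁]
    rw [map_add, map_mul, map_add, map_mul, hΘ1, ι_ext Θ hΘ0, ι_ext Θ hΘ0]
    ring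
  have hd : MvPowerSeries.pderiv k (1 : Fin 2) (Θ F') = ι φ₁ +
      z * (2 * Θ F₂ + z * MvPowerSeries.pderiv k (1 : Fin 2) (Θ F₂)) := by
    rw [hF]
    simp only [map_add, Derivation.leibniz, smul_eq_mul, pderiv_ι, hzd]
    ring
  obtain rfl : φ₁ = 0 := hdiv φ₁ (by
    obtain ⟨c, hc⟩ := hGψ
    refine ⟨1 - c * (2 * Θ F₂ + z * MvPowerSeries.pderiv k (1 : Fin 2) (Θ F₂)), ?_⟩
    linear_combination -hd - (2 * Θ F₂ + z * MvPowerSeries.pderiv k (1 : Fin 2) (Θ F₂)) * hc)
  rw [map_zero, mul_zero, add_zero] at hF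
  have hz0 : constantCoeff z = 0 := by
    rw [hz, map_sub, constantCoeff_X, constantCoeff_ι, hψ0, sub_zero]
  have hlz : lc 1 z = 1 := by rw [← cc_pderiv, hzd, map_one]
  have hW : IsUnit (Θ F₂) := by
    rw [MvPowerSeries.isUnit_iff_constantCoeff, isUnit_iff_ne_zero]
    intro h0
    refine hH ?_
    rw [hF, hess_add, hess_mul _ _ hz0 hz0, h0, mul_zero, add_zero, hess, pderiv_ι]
    simp [lc]
  by_cases hφ : φ₀ = 0
  · exact Or.inr (iso_of_eq hW hz0 ⟨1, by rw [hlz]; exact one_ne_zero⟩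
      (by rw [hF, hφ, map_zero, zero_add, sq]))
  obtain ⟨j, v, hv, hj⟩ : ∃ j v, PowerSeries.constantCoeff v ≠ 0 ∧ φ₀ = PowerSeries.X ^ j * v :=
    ⟨_, _, fun h => hφ (PowerSeries.constantCoeff_divXPowOrder_eq_zero_iff.1 h),
      PowerSeries.X_pow_order_mul_divXPowOrder.symm⟩
  have hφ0 : PowerSeries.constantCoeff φ₀ = 0 := by
    have := hF0
    rwa [hF, map_add, map_mul, map_mul, hz0, zero_mul, zero_mul, add_zero, constantCoeff_ι] at this
  obtain ⟨n, rfl⟩ : ∃ n, j = n + 1 := Nat.exists_eq_succ_of_ne_zero fun h => hv (by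
    rwa [hj, h, pow_zero, one_mul] at hφ0)
  have hvu : IsUnit (-(ι v) : S) := by
    rw [IsUnit.neg_iff]
    exact (PowerSeries.isUnit_iff_constantCoeff.2 (isUnit_iff_ne_zero.2 hv)).map _
  obtain ⟨w, hw⟩ := hvu
  obtain ⟨R, hR, hRR⟩ := exists_sqrt h2 (hW.mul (Units.isUnit w⁻¹))
  obtain ⟨θ, hθ0, hθ1⟩ := exists_coord₂ (X 0) (z * R) (constantCoeff_X 0)
    (by rw [map_mul, hz0, zero_mul])
    (by
      simp only [lc_mul, lc_X, hz0, hlz, zero_mul, zero_add, if_true,
        show ((1 : Fin 2) = 0) = False by simp, if_false, one_mul, sub_zero, mul_zero]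
      exact (MvPowerSeries.isUnit_iff_constantCoeff.1 hR).ne_zero)
  refine Or.inl ⟨n, ⟨(Ideal.quotientEquivAlg _ _ θ ?_).symm⟩⟩
  have hE : θ (ArSing.eqn k n) * (w : S) = Θ F' := by
    simp only [ArSing.eqn, map_sub, map_pow, hθ0, hθ1]
    rw [hF, hj, map_mul, map_pow, ι_X, show ι v = -(w : S) by rw [hw, neg_neg]]
    have e : R * R * (w : S) = Θ F₂ := by rw [hRR, mul_assoc, Units.inv_mul, mul_one]
    linear_combination (z * z) * e
  rw [Ideal.map_span, Set.image_singleton, ← hE, Ideal.span_singleton_mul_right_unit w.isUnit]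
  rfl

theorem good_of_ne [IsAlgClosed k] (h2 : (2 : k) ≠ 0) {F : S} (hF0 : constantCoeff F = 0)
    (h : ¬ ((∀ i, lc i F = 0) ∧ ∀ i j, hess i j F = 0)) : Good F := by
  by_cases h1 : ∀ i, lc i F = 0
  · have h' : ¬ ∀ i j, hess i j F = 0 := fun hh => h ⟨h1, hh⟩
    obtain ⟨f0, f1, hf⟩ := exists_split F
    obtain ⟨l0, l1⟩ := lc_split hf
    obtain ⟨a0, a1, hfa⟩ := exists_split f0
    obtain ⟨b0, b1, hfb⟩ := exists_split f1
    rw [← l0, h1, map_zero, zero_add] at hfa
    rw [← l1, h1, map_zero, zero_add] at hfb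
    have hFe : F = X 0 * X 0 * a0 + X 0 * X 1 * (a1 + b0) + X 1 * X 1 * b1 := by
      rw [hf, hF0, map_zero, zero_add, hfa, hfb]; ring
    have z := fun i : Fin 2 => constantCoeff_X (R := k) i
    have key : ∀ (θ : S ≃ₐ[k] S), constantCoeff (θ (X 0)) = 0 → constantCoeff (θ (X 1)) = 0 →
        constantCoeff (θ F) = 0 ∧ lc 1 (θ F) = 0 ∧ ∀ hd : hess 1 1 (θ F) ≠ 0, Good F := by
      intro θ h00 h01
      have hc0 : constantCoeff (θ F) = 0 := by
        rw [hFe]; simp only [map_add, map_mul, h00, h01, zero_mul, add_zero]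
      have hc1 : lc 1 (θ F) = 0 := by
        rw [hFe]; simp only [map_add, map_mul, lc_add, lc_mul, h00, h01, zero_mul, mul_zero, add_zero]
      exact ⟨hc0, hc1, fun hd => Good.of_aut θ (good_of_hess h2 hc0 hc1 hd)⟩
    have hcc : ∀ (θ : S ≃ₐ[k] S) (R : S), constantCoeff (θ R) = constantCoeff R := by
      intro θ R
      have hu : ¬ IsUnit (R - C (constantCoeff R) : S) := by
        rw [MvPowerSeries.isUnit_iff_constantCoeff]; simp
      by_contra hne
      refine hu ((isUnit_map_iff θ _).1 ?_)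
      rw [MvPowerSeries.isUnit_iff_constantCoeff, map_sub,
        show θ (C (constantCoeff R)) = C (constantCoeff R) from θ.commutes _, map_sub,
        constantCoeff_C, isUnit_iff_ne_zero, sub_ne_zero]
      exact hne
    by_cases hC : constantCoeff b1 = 0
    · by_cases hA : constantCoeff a0 = 0
      · -- mixed term only
        have hB : constantCoeff (a1 + b0) ≠ 0 := by
          intro hB
          refine h' fun i j => ?_
          rw [hFe, hess_add, hess_add, hess_mul _ _ (z 0) (z 0), hess_mul _ _ (z 0) (z 1),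
            hess_mul _ _ (z 1) (z 1), hA, hB, hC]
          ring
        obtain ⟨θ, t0, t1⟩ := exists_coord₂ (X 0 + X 1 : S) (X 1) (by simp) (constantCoeff_X 1)
          (by simp [lc_add, lc_X])
        obtain ⟨-, -, hk⟩ := key θ (by rw [t0]; simp) (by rw [t1]; simp)
        refine hk ?_
        rw [hFe]
        simp only [map_add θ, map_mul θ, t0, t1, hess_add]
        rw [hess_mul _ _ (by simp) (by simp), hess_mul _ _ (by simp) (by simp),
          hess_mul _ _ (by simp) (by simp), ← map_add θ, hcc, hcc, hcc, hA, hC]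
        simp only [lc_add, lc_X, if_true, show ((1 : Fin 2) = 0) = False by simp, if_false]
        rw [mul_zero, mul_zero, add_zero, zero_add]
        refine mul_ne_zero ?_ hB
        simpa [one_add_one_eq_two] using h2
      · obtain ⟨θ, t0, t1⟩ := exists_coord₂ (X 1 : S) (X 0) (constantCoeff_X 1) (constantCoeff_X 0)
          (by simp [lc_X])
        obtain ⟨-, -, hk⟩ := key θ (by rw [t0]; simp) (by rw [t1]; simp)
        refine hk ?_
        rw [hFe]
        simp only [map_add θ, map_mul θ, t0, t1, hess_add]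
        rw [hess_mul _ _ (z 1) (z 1), hess_mul _ _ (z 1) (z 0), hess_mul _ _ (z 0) (z 0), hcc]
        simpa [lc_X, one_add_one_eq_two, h2] using hA
    · obtain ⟨θ, t0, t1⟩ := exists_coord₂ (X 0 : S) (X 1) (constantCoeff_X 0) (constantCoeff_X 1)
        (by simp [lc_X])
      obtain ⟨-, -, hk⟩ := key θ (by rw [t0]; simp) (by rw [t1]; simp)
      refine hk ?_
      rw [hFe]
      simp only [map_add θ, map_mul θ, t0, t1, hess_add]
      rw [hess_mul _ _ (z 0) (z 0), hess_mul _ _ (z 0) (z 1), hess_mul _ _ (z 1) (z 1), hcc θ b1]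
      simpa [lc_X, one_add_one_eq_two, h2] using hC
  · push_neg at h1
    obtain ⟨θ, hθ⟩ := exists_coord F hF0 h1
    obtain ⟨θ', hθ'⟩ := exists_coord (ArSing.eqn k 0 : S) (by simp [ArSing.eqn])
      ⟨0, by simp [ArSing.eqn, lc_sub, lc_X, sq, lc_mul]⟩
    refine Or.inl ⟨0, ⟨(Ideal.quotientEquivAlg (Ideal.span {(X 1 : S)}) _ θ ?_).symm.trans
      (Ideal.quotientEquivAlg _ _ θ' ?_)⟩⟩
    · rw [Ideal.map_span, Set.image_singleton]; congr 2; exact hθ.symm
    · rw [Ideal.map_span, Set.image_singleton]; congr 2; exact hθ'.symm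

theorem not_good (h2 : (2 : k) ≠ 0) {F : S} (hF0 : constantCoeff F = 0) (hF1 : ∀ i, lc i F = 0)
    (hF2 : ∀ i j, hess i j F = 0) : ¬ Good F := by
  have model : ∀ (G : S) (e : (S ⧸ Ideal.span {F}) ≃ₐ[k] (S ⧸ Ideal.span {G})),
      ∀ (b : S) (n : ℕ), G = X 1 * X 1 + X 0 ^ (n + 1) * b → (n = 0 → constantCoeff b ≠ 0) → False := by
    intro G e b n hG hb
    have hG0 : constantCoeff G = 0 := by simp [hG]
    let mkG : S →+* (S ⧸ Ideal.span {G}) := Ideal.Quotient.mk _
    have hnu : ∀ i, ¬ IsUnit (mkG (X i)) := by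
      intro i hi
      obtain ⟨c, hc⟩ := isUnit_iff_exists_inv.1 hi
      obtain ⟨c, rfl⟩ := Ideal.Quotient.mk_surjective c
      rw [← map_mul, ← map_one mkG, Ideal.Quotient.mk_eq_mk_iff_sub_mem,
        Ideal.mem_span_singleton'] at hc
      obtain ⟨w, hw⟩ := hc
      have := congrArg constantCoeff hw
      simp [hG0] at this
    have hgen : ∀ c : S ⧸ Ideal.span {G}, ∃ c₀ : k, ∃ u v : S ⧸ Ideal.span {G},
        c = algebraMap k _ c₀ + u * mkG (X 0) + v * mkG (X 1) := by
      intro c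
      obtain ⟨c, rfl⟩ := Ideal.Quotient.mk_surjective c
      obtain ⟨c0, c1, hc⟩ := exists_split c
      refine ⟨constantCoeff c, mkG c0, mkG c1, ?_⟩
      conv_lhs => rw [hc]
      rw [map_add, map_add, map_mul, map_mul, mul_comm (mkG c0), mul_comm (mkG c1)]
      rfl
    obtain ⟨P, Q, hP, hQ, hP0, hQ0, hdet⟩ :=
      exists_generators hF0 hF1 e (mkG (X 0)) (mkG (X 1)) (hnu 0) (hnu 1) hgen
    obtain ⟨B, hB⟩ := Ideal.Quotient.mk_surjective (e.symm (mkG b))
    have hrel : F ∣ Q * Q + P ^ (n + 1) * B := by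
      rw [← Ideal.mem_span_singleton, ← Ideal.Quotient.eq_zero_iff_mem]
      apply e.injective
      rw [map_add, map_mul, map_mul, map_pow, map_add, map_mul, map_mul, map_pow, hP, hQ, hB,
        AlgEquiv.apply_symm_apply, map_zero, ← map_pow, ← map_mul, ← map_mul, ← map_add]
      exact Ideal.Quotient.eq_zero_iff_mem.2 (Ideal.mem_span_singleton.2 (by rw [hG]))
    obtain ⟨c, hc⟩ := hrel
    rcases n with _ | n
    · have hB0 : constantCoeff B ≠ 0 := by
        intro h0
        refine hb rfl ?_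
        by_contra hb'
        have hu := ((MvPowerSeries.isUnit_iff_constantCoeff.2 (isUnit_iff_ne_zero.2 hb')).map mkG).map e.symm
        rw [← hB] at hu
        obtain ⟨c', hc'⟩ := isUnit_iff_exists_inv.1 hu
        obtain ⟨c', rfl⟩ := Ideal.Quotient.mk_surjective c'
        rw [← map_mul, ← map_one (Ideal.Quotient.mk (Ideal.span {F})),
          Ideal.Quotient.mk_eq_mk_iff_sub_mem, Ideal.mem_span_singleton'] at hc'
        obtain ⟨w, hw⟩ := hc'
        have := congrArg constantCoeff hw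
        simp [hF0, h0] at this
      have hl : ∀ i, lc i P = 0 := fun i => by
        have := congrArg (lc i) hc
        rw [zero_add, pow_one, lc_add, lc_mul, lc_mul i P B, lc_mul i F c, hQ0, hP0, hF0, hF1] at this
        simp only [zero_mul, mul_zero, add_zero, zero_add] at this
        exact (mul_eq_zero.1 this).resolve_right hB0
      exact hdet (by rw [hl, hl]; ring)
    · have hh : ∀ i j, (lc i Q * lc j Q + lc j Q * lc i Q) +
          (lc i P * lc j P + lc j P * lc i P) * constantCoeff (P ^ n * B) = 0 := fun i j => by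
        have e1 := hess_mul i j hQ0 hQ0 1
        rw [map_one, mul_one, mul_one] at e1
        rw [← e1, ← hess_mul i j hP0 hP0 (P ^ n * B), ← hess_add,
          show P * P * (P ^ n * B) = P ^ (n + 1 + 1) * B by ring, hc]
        simp only [hess, Derivation.leibniz, smul_eq_mul, lc_add, lc_mul, cc_pderiv, map_mul, hF0, hF1]
        have := hF2 i j
        rw [hess] at this
        rw [this]; ring
      refine pow_ne_zero 2 hdet ((mul_eq_zero.1 (?_ : (2 : k) * _ = 0)).resolve_left h2)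
      linear_combination (lc 0 P) ^ 2 * hh 1 1 + (lc 1 P) ^ 2 * hh 0 0 - 2 * lc 0 P * lc 1 P * hh 0 1
  rintro (⟨n, ⟨e⟩⟩ | h)
  · exact model _ e (-1) n (by simp [ArSing.eqn]; ring) (fun _ => by simp)
  · obtain ⟨e⟩ := h
    exact model _ e 0 1 (by ring) (fun h => absurd h (by omega))

end Groth.Agent.PlaneCurve
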